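import Groth.Statements.S19377
import Groth.Agent.Nagata.Projective
import Groth.Agent.TMul.RelAmpleOps
import Groth.Agent.TMul.AmpleComp
import Groth.Agent.S12416
import Groth.Agent.S4418
import Groth.Agent.HilbSurf.Main
import Groth.Agent.SmLocalST.SmoothField
import Groth.Agent.LocNoethTop.Basic

set_option autoImplicit false
set_option backward.isDefEq.respectTransparency false
set_option linter.style.haveILetI false
universe u
open CategoryTheory CategoryTheory.Limits AlgebraicGeometry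

namespace Groth.Agent.GenProj

theorem dense_of_meets {k : Type u} [Field k] {S : Scheme.{u}} (g : S ⟶ Spec (CommRingCat.of k))
    [Smooth g] [QuasiCompact g] (V : S.Opens)
    (h : ∀ s : S, ∃ s' ∈ connectedComponent s, s' ∈ V) : Dense (V : Set S) := by
  haveI : IsLocallyNoetherian S := LocallyOfFiniteType.isLocallyNoetherian g
  haveI : CompactSpace S := QuasiCompact.compactSpace_of_compactSpace g
  haveI : IsNoetherian S := {}
  rw [dense_iff_inter_open]
  rintro W hW ⟨w, hw⟩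
  let C : S.Opens := ⟨connectedComponent w, LocNoethTop.isOpen_connectedComponent_of_noetherian w⟩
  haveI : ConnectedSpace (C : Scheme.{u}) := Subtype.connectedSpace isConnected_connectedComponent
  haveI : IrreducibleSpace (C : Scheme.{u}) := HilbSurf.irreducible_of_regular
    (fun x => SmLocalST.isRegularLocalRing_stalk_of_smooth_field (C.ι ≫ g) x)
  obtain ⟨s', hs', hs'V⟩ := h w
  obtain ⟨z, ⟨hz1, hz2⟩⟩ := nonempty_preirreducible_inter
    (hW.preimage C.ι.continuous) (V.2.preimage C.ι.continuous)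
    ⟨⟨w, mem_connectedComponent⟩, hw⟩ ⟨⟨s', hs'⟩, hs'V⟩
  exact ⟨C.ι z, hz1, hz2⟩

theorem isQuasiProjective_restrict_comp {X S : Scheme.{u}} [IsNoetherian S] (f : X ⟶ S) (V : S.Opens)
    (h : RelProj.IsProjective (f ∣_ V)) : RelProj.IsQuasiProjective ((f ⁻¹ᵁ V).ι ≫ f) := by
  obtain ⟨⟨hft, hqc, L, hL⟩, -⟩ := Groth.Agent.S4418.result _ h
  haveI := hft; haveI := hqc
  haveI : CompactSpace S := inferInstance
  have hV : RelAmple.IsRelAmple (V.ι ≫ 𝟙 S) ((Scheme.Modules.pullback V.ι).obj (Coh.structureModule S)) :=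
    TMul.isRelAmple_pullback_of_isInducing V.ι V.ι.isOpenEmbedding.isInducing
      (TMul.isRelAmple_id TMul.isInvertible_structureModule)
  rw [Category.comp_id] at hV
  obtain ⟨n, -, hn⟩ := TMul.exists_isRelAmple_comp (f ∣_ V) V.ι hL hV
  rw [← morphismRestrict_ι]
  exact ⟨inferInstance, inferInstance, _, hn n le_rfl⟩

theorem isProjective_restrict_of_le {X S : Scheme.{u}} [IsNoetherian S] (f : X ⟶ S) [IsProper f]
    (U : X.Opens) (hU : RelProj.IsQuasiProjective (U.ι ≫ f)) (V : S.Opens) (hV : f ⁻¹ᵁ V ≤ U) :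
    RelProj.IsProjective (f ∣_ V) := by
  obtain ⟨hft, hqc, L, hL⟩ := hU
  haveI := hft; haveI := hqc
  have h1 := TMul.isRelAmple_morphismRestrict hL V
  haveI : QuasiCompact ((U.ι ≫ f) ∣_ V) := inferInstance
  let j : (f ⁻¹ᵁ V : X.Opens).toScheme ⟶ ((U.ι ≫ f) ⁻¹ᵁ V : (U : Scheme.{u}).Opens).toScheme :=
    IsOpenImmersion.lift (((U.ι ≫ f) ⁻¹ᵁ V).ι ≫ U.ι) (f ⁻¹ᵁ V).ι (by
      rintro _ ⟨x, rfl⟩
      exact ⟨⟨⟨x.1, hV x.2⟩, x.2⟩, rfl⟩)
  have hj : j ≫ ((U.ι ≫ f) ⁻¹ᵁ V).ι ≫ U.ι = (f ⁻¹ᵁ V).ι := IsOpenImmersion.lift_fac _ _ _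
  haveI : IsOpenImmersion j := by
    haveI : IsOpenImmersion (j ≫ ((U.ι ≫ f) ⁻¹ᵁ V).ι ≫ U.ι) := by rw [hj]; infer_instance
    exact IsOpenImmersion.of_comp j (((U.ι ≫ f) ⁻¹ᵁ V).ι ≫ U.ι)
  have hjf : j ≫ ((U.ι ≫ f) ∣_ V) = f ∣_ V := by
    rw [← cancel_mono V.ι]
    simp only [Category.assoc, morphismRestrict_ι]
    rw [← Category.assoc (((U.ι ≫ f) ⁻¹ᵁ V).ι), ← Category.assoc j, hj]
  haveI : QuasiCompact j := by
    haveI : QuasiCompact (j ≫ ((U.ι ≫ f) ∣_ V)) := by rw [hjf]; infer_instance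
    exact QuasiCompact.of_comp j ((U.ι ≫ f) ∣_ V)
  have h2 := TMul.isRelAmple_pullback_of_isInducing (f := (U.ι ≫ f) ∣_ V) j j.isOpenEmbedding.isInducing h1
  rw [hjf] at h2
  haveI : IsProper (f ∣_ V) := MorphismProperty.of_isPullback (isPullback_morphismRestrict f V).flip inferInstance
  haveI : CompactSpace (V : Scheme.{u}) := isCompact_iff_compactSpace.mp (TopologicalSpace.NoetherianSpace.isCompact _)
  haveI : IsNoetherian (V : Scheme.{u}) := {}
  exact Groth.Agent.S12416.result _ ⟨inferInstance, inferInstance, _, h2⟩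

end Groth.Agent.GenProj
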